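import Groth.Agent.LocImm.Glue
import Groth.Prelude.Def_FEt

/-!
# Gluing finite étale covers of two opens
-/

universe u

set_option autoImplicit false
set_option backward.isDefEq.respectTransparency false
set_option backward.defeqAttrib.useBackward true
set_option linter.style.haveILetI false

open CategoryTheory CategoryTheory.Limits AlgebraicGeometry TopologicalSpace

namespace Groth.Pi1Purity

/-- Covers of two opens with a common restriction to the intersection glue. -/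
theorem exists_glue_cover {X : Scheme.{u}} {W N : X.Opens} {O : Scheme.{u}} (o₁ : O ⟶ (W : Scheme.{u}))
    (o₂ : O ⟶ (N : Scheme.{u})) (hO : IsPullback o₁ o₂ W.ι N.ι)
    {T₁ T₂ Z : Scheme.{u}} (t₁ : T₁ ⟶ (W : Scheme.{u})) (h₁ : FEt.prop t₁)
    (t₂ : T₂ ⟶ (N : Scheme.{u})) (h₂ : FEt.prop t₂) (z : Z ⟶ O) (g₁ : Z ⟶ T₁) (g₂ : Z ⟶ T₂)
    (hg₁ : IsPullback g₁ z t₁ o₁) (hg₂ : IsPullback g₂ z t₂ o₂) :
    ∃ (T : Scheme.{u}) (t : T ⟶ ((W ⊔ N : X.Opens) : Scheme.{u})) (_ : FEt.prop t) (γ : T₁ ⟶ T),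
      IsPullback γ t₁ t (X.homOfLE le_sup_left) := by
  haveI : IsOpenImmersion o₁ := MorphismProperty.of_isPullback hO.flip inferInstance
  haveI : IsOpenImmersion o₂ := MorphismProperty.of_isPullback hO inferInstance
  haveI : IsOpenImmersion g₁ := MorphismProperty.of_isPullback hg₁.flip inferInstance
  haveI : IsOpenImmersion g₂ := MorphismProperty.of_isPullback hg₂.flip inferInstance
  let eW := X.homOfLE (le_sup_left : W ≤ W ⊔ N)
  let eN := X.homOfLE (le_sup_right : N ≤ W ⊔ N)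
  have hw : g₁ ≫ t₁ ≫ eW = g₂ ≫ t₂ ≫ eN := by
    rw [← cancel_mono (W ⊔ N).ι]
    simp only [Category.assoc, eW, eN, Scheme.homOfLE_ι]
    rw [reassoc_of% hg₁.w, hO.w, reassoc_of% hg₂.w]
  let t : pushout g₁ g₂ ⟶ ((W ⊔ N : X.Opens) : Scheme.{u}) := pushout.desc (t₁ ≫ eW) (t₂ ≫ eN) hw
  have htl : pushout.inl g₁ g₂ ≫ t = t₁ ≫ eW := pushout.inl_desc _ _ _
  have htr : pushout.inr g₁ g₂ ≫ t = t₂ ≫ eN := pushout.inr_desc _ _ _
  have hval : ∀ {V : X.Opens} (hV : V ≤ W ⊔ N) (v : (V : Scheme.{u})),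
      (W ⊔ N).ι (X.homOfLE hV v) = V.ι v := fun hV v => by
    rw [← Scheme.Hom.comp_apply, Scheme.homOfLE_ι]
  -- points over the intersection come from `Z`
  have hmem : ∀ {V : X.Opens} {T' : Scheme.{u}} {o : O ⟶ (V : Scheme.{u})} {g : Z ⟶ T'} {t' : T' ⟶ (V : Scheme.{u})}
      (_ : IsPullback g z t' o) (y : T') (q : O), o q = t' y → y ∈ Set.range g := by
    intro V T' o g t' h y q hq
    rw [← h.isoPullback_hom_fst, Scheme.Hom.comp_base, TopCat.coe_comp,
      Function.Surjective.range_comp h.isoPullback.hom.surjective, Scheme.Pullback.range_fst]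
    exact ⟨q, hq⟩
  have hOmem : ∀ (a : (W : Scheme.{u})) (b : (N : Scheme.{u})), W.ι a = N.ι b → ∃ q, o₁ q = a ∧ o₂ q = b := by
    intro a b hab
    obtain ⟨q, hq₁, hq₂⟩ := Scheme.Pullback.exists_preimage_pullback a b hab
    exact ⟨hO.isoPullback.inv q,
      by rw [← Scheme.Hom.comp_apply, hO.isoPullback_inv_fst, hq₁],
      by rw [← Scheme.Hom.comp_apply, hO.isoPullback_inv_snd, hq₂]⟩
  have H₁ : IsPullback (pushout.inl g₁ g₂) t₁ t eW := by
    refine (IsOpenImmersion.isPullback t₁ (pushout.inl g₁ g₂) eW t htl ?_).flip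
    ext y
    constructor
    · rintro ⟨a, ha⟩
      rcases LocImmersion.mem_range_inl_or_inr g₁ g₂ y with hy | ⟨b, rfl⟩
      · exact hy
      · have hb : W.ι a = N.ι (t₂ b) := by
          rw [← hval le_sup_left a, ← hval le_sup_right (t₂ b)]
          refine congrArg (W ⊔ N).ι ?_
          refine ha.trans ?_
          rw [← Scheme.Hom.comp_apply, htr, Scheme.Hom.comp_apply]
        obtain ⟨q, -, hq⟩ := hOmem _ _ hb
        obtain ⟨w, rfl⟩ := hmem hg₂ b q hq
        refine ⟨g₁ w, ?_⟩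
        rw [← Scheme.Hom.comp_apply, pushout.condition, Scheme.Hom.comp_apply]
    · rintro ⟨a, rfl⟩
      exact ⟨t₁ a, by rw [← Scheme.Hom.comp_apply, ← Scheme.Hom.comp_apply, htl]⟩
  have H₂ : IsPullback (pushout.inr g₁ g₂) t₂ t eN := by
    refine (IsOpenImmersion.isPullback t₂ (pushout.inr g₁ g₂) eN t htr ?_).flip
    ext y
    constructor
    · rintro ⟨b, hb⟩
      rcases LocImmersion.mem_range_inl_or_inr g₁ g₂ y with ⟨a, rfl⟩ | hy
      · have ha : W.ι (t₁ a) = N.ι b := by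
          rw [← hval le_sup_left (t₁ a), ← hval le_sup_right b]
          refine congrArg (W ⊔ N).ι ?_
          refine Eq.trans ?_ hb.symm
          rw [← Scheme.Hom.comp_apply, ← Scheme.Hom.comp_apply, htl]
        obtain ⟨q, hq, -⟩ := hOmem _ _ ha
        obtain ⟨w, rfl⟩ := hmem hg₁ a q hq
        refine ⟨g₂ w, ?_⟩
        rw [← Scheme.Hom.comp_apply, ← pushout.condition, Scheme.Hom.comp_apply]
      · exact hy
    · rintro ⟨b, rfl⟩
      exact ⟨t₂ b, by rw [← Scheme.Hom.comp_apply, ← Scheme.Hom.comp_apply, htr]⟩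
  let 𝒰 := LocImmersion.coverTwo eW eN fun x => by
    rcases x.2 with h | h
    · exact Or.inl ⟨⟨x.1, h⟩, (W ⊔ N).ι.isOpenEmbedding.injective (hval _ _)⟩
    · exact Or.inr ⟨⟨x.1, h⟩, (W ⊔ N).ι.isOpenEmbedding.injective (hval _ _)⟩
  have hloc : ∀ (P : MorphismProperty Scheme.{u}) [IsZariskiLocalAtTarget P] [P.RespectsIso],
      P t₁ → P t₂ → P t := fun P _ _ hP₁ hP₂ => by
    refine (IsZariskiLocalAtTarget.iff_of_openCover (P := P) 𝒰).2 fun i => ?_
    rcases i with ⟨_ | _⟩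
    · exact (P.cancel_left_of_respectsIso H₂.isoPullback.hom _).1 (by
        erw [H₂.isoPullback_hom_snd]; exact hP₂)
    · exact (P.cancel_left_of_respectsIso H₁.isoPullback.hom _).1 (by
        erw [H₁.isoPullback_hom_snd]; exact hP₁)
  exact ⟨_, t, ⟨hloc @IsFinite h₁.1 h₂.1, hloc @Etale h₁.2 h₂.2⟩, _, H₁⟩

end Groth.Pi1Purity
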