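import Groth.Agent.Pi1Purity.Spread
import Groth.Agent.Pi1Purity.GlueTwo
import Mathlib.AlgebraicGeometry.Noetherian

/-!
# Extending finite étale covers across points where purity holds
-/

universe u

set_option autoImplicit false
set_option backward.isDefEq.respectTransparency false
set_option backward.defeqAttrib.useBackward true
set_option linter.style.haveILetI false

open CategoryTheory CategoryTheory.Limits AlgebraicGeometry TopologicalSpace

namespace Groth.Pi1Purity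

open Groth.Limits

variable {X : Scheme.{u}}

/-- An open containing all proper generisations of an outside point meets the local scheme in the
punctured spectrum. -/
theorem preimage_fromSpecStalk_eq {W : X.Opens} {x : X} (hx : x ∉ W) (hgen : ∀ y, y ⤳ x → y ≠ x → y ∈ W) :
    X.fromSpecStalk x ⁻¹ᵁ W = FEt.puncturedSpec (X.presheaf.stalk x) := by
  ext p
  change X.fromSpecStalk x p ∈ W ↔ p ≠ IsLocalRing.closedPoint (X.presheaf.stalk x)
  constructor
  · rintro hp rfl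
    exact hx (by simpa using hp)
  · intro hp
    refine hgen _ ((Scheme.range_fromSpecStalk (x := x)).le ⟨p, rfl⟩) fun h => hp ?_
    exact (X.fromSpecStalk x).isEmbedding.injective (h.trans Scheme.fromSpecStalk_closedPoint.symm)

/-- A closed nonempty set contains a point maximal for generisation. -/
theorem exists_generic {Z : Set X} (hZ : IsClosed Z) (hne : Z.Nonempty) :
    ∃ x ∈ Z, ∀ y ∈ Z, y ⤳ x → y = x := by
  obtain ⟨z, hz⟩ := hne
  let C : Set Z := irreducibleComponent (⟨z, hz⟩ : Z)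
  have hC : IsIrreducible (Subtype.val '' C : Set X) :=
    isIrreducible_irreducibleComponent.image _ continuous_subtype_val.continuousOn
  have hCc : IsClosed (Subtype.val '' C : Set X) :=
    hZ.isClosedEmbedding_subtypeVal.isClosedMap _ isClosed_irreducibleComponent
  have hg := hC.isGenericPoint_genericPoint hCc
  obtain ⟨⟨x, hx⟩, hxC, hxe⟩ := hg.mem
  refine ⟨x, hx, fun y hy hyx => ?_⟩
  have hxe2 : x = hC.genericPoint := hxe
  have hxe' : IsGenericPoint x (Subtype.val '' C : Set X) := by rw [hxe2]; exact hg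
  have h1 : IsIrreducible (closure ({⟨y, hy⟩} : Set Z)) := isIrreducible_singleton.closure
  have h2 : C ⊆ closure ({⟨y, hy⟩} : Set Z) := by
    intro w hw
    rw [closure_subtype, Set.image_singleton]
    exact (hyx.trans (hxe'.specializes ⟨w, hw, rfl⟩)).mem_closure
  have h3 := eq_irreducibleComponent h1.2 h2
  have h4 : (⟨y, hy⟩ : Z) ∈ C := by
    change _ ∈ irreducibleComponent _
    rw [← h3]
    exact subset_closure rfl
  exact (hyx.antisymm (hxe'.specializes ⟨_, h4, rfl⟩)).eq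

variable [IsNoetherian X]

/-- The cover induced on the punctured local scheme. -/
noncomputable def localCover {W : X.Opens} {T₁ : Scheme.{u}} (t₁ : T₁ ⟶ (W : Scheme.{u})) (h₁ : FEt.prop t₁)
    (x : X) : FEt.Cat ((X.fromSpecStalk x ⁻¹ᵁ W : (Spec (X.presheaf.stalk x)).Opens) : Scheme.{u}) :=
  MorphismProperty.Over.mk ⊤ (pullback.snd t₁ (X.fromSpecStalk x ∣_ W)) (MorphismProperty.pullback_snd _ _ h₁)

/-- Extension across one point where the cover extends over the local scheme. -/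
theorem exists_extend_step_of_mem {W : X.Opens} {T₁ : Scheme.{u}} (t₁ : T₁ ⟶ (W : Scheme.{u})) (h₁ : FEt.prop t₁)
    {x : X} (hx : x ∉ W)
    (hB : (FEt.restrict (X.fromSpecStalk x ⁻¹ᵁ W).ι).essImage (localCover t₁ h₁ x)) :
    ∃ (W' : X.Opens) (hle : W ≤ W'), x ∈ W' ∧
      ∃ (T : Scheme.{u}) (t : T ⟶ (W' : Scheme.{u})) (_ : FEt.prop t) (γ : T₁ ⟶ T),
        IsPullback γ t₁ t (X.homOfLE hle) := by
  haveI : IsFinite t₁ := h₁.1
  haveI : Etale t₁ := h₁.2
  let P := X.fromSpecStalk x ⁻¹ᵁ W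
  -- the cover on the punctured local scheme and its extension
  let r : (P : Scheme.{u}) ⟶ (W : Scheme.{u}) := X.fromSpecStalk x ∣_ W
  let B : FEt.Cat (P : Scheme.{u}) :=
    MorphismProperty.Over.mk ⊤ (pullback.snd t₁ r) (MorphismProperty.pullback_snd _ _ h₁)
  let Y := hB.witness
  let eB : (FEt.restrict P.ι).obj Y ≅ B := hB.getIso
  let eL : pullback Y.hom P.ι ≅ pullback t₁ r := (MorphismProperty.Over.forget _ _ _ ⋙ Over.forget _).mapIso eB
  have heL : eL.hom ≫ pullback.snd t₁ r = pullback.snd Y.hom P.ι := MorphismProperty.Over.w eB.hom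
  -- spreading out
  obtain ⟨_, ⟨W₀, hW₀, rfl⟩, hxW₀, -⟩ :=
    X.isBasis_affineOpens.exists_subset_of_mem_open (Set.mem_univ x) isOpen_univ
  obtain ⟨k, T₂, q, hq, τ, hτ⟩ := exists_spread hW₀ hxW₀ Y
  haveI : IsFinite q := hq.1
  haveI : Etale q := hq.2
  haveI := nonempty_basicNhd (W := W₀) hxW₀
  haveI (V : BasicNhd W₀ x) := isAffine_nhdDiagram hW₀ V
  haveI : ∀ {V V' : BasicNhd W₀ x} (m : V ⟶ V'), IsAffineHom ((nhdDiagram W₀ x).map m) :=
    fun m => isAffineHom_nhdDiagram hW₀ m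
  obtain ⟨lim⟩ := nonempty_isLimit_nhdCone hW₀ hxW₀
  let O : ((nhdDiagram W₀ x).obj k).Opens := k.1.ι ⁻¹ᵁ W
  let D' := opensDiagram (nhdDiagram W₀ x) k O
  let c' := opensCone (nhdDiagram W₀ x) (nhdCone W₀ x) k O
  have lim' : IsLimit c' := isLimitOpensCone _ _ lim k O
  let k₀ : Over k := Over.mk (𝟙 k)
  let inO : D'.obj k₀ ⟶ (k.1 : Scheme.{u}) :=
    ((nhdDiagram W₀ x).map k₀.hom ⁻¹ᵁ O).ι ≫ (nhdDiagram W₀ x).map k₀.hom
  let inW : D'.obj k₀ ⟶ (W : Scheme.{u}) := IsOpenImmersion.lift W.ι (inO ≫ k.1.ι) (by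
    rintro _ ⟨w, rfl⟩
    rw [Scheme.Opens.range_ι]
    exact w.2)
  have hinW : inW ≫ W.ι = inO ≫ k.1.ι := IsOpenImmersion.lift_fac _ _ _
  haveI : NoetherianSpace ↥((nhdDiagram W₀ x).obj k₀.left) := NoetherianSpace.set (k.1 : Set X)
  haveI : CompactSpace (D'.obj k₀) := isCompact_iff_compactSpace.1 (NoetherianSpace.isCompact _)
  haveI : IsOpenImmersion inO := by
    haveI : IsIso ((nhdDiagram W₀ x).map k₀.hom) := by
      change IsIso ((nhdDiagram W₀ x).map (𝟙 k))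
      infer_instance
    exact MorphismProperty.comp_mem @IsOpenImmersion _ _ inferInstance inferInstance
  haveI : IsOpenImmersion (inO ≫ k.1.ι) :=
    MorphismProperty.comp_mem @IsOpenImmersion _ _ inferInstance inferInstance
  haveI : IsLocallyNoetherian (D'.obj k₀) := isLocallyNoetherian_of_isOpenImmersion (inO ≫ k.1.ι)
  haveI : QuasiSeparatedSpace (D'.obj k₀) := inferInstance
  let x₀ : pullback t₁ inW ⟶ D'.obj k₀ := pullback.snd _ _
  let y₀ : pullback q inO ⟶ D'.obj k₀ := pullback.snd _ _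
  haveI : IsFinite x₀ := inferInstance
  haveI : IsFinite y₀ := inferInstance
  haveI : Etale x₀ := inferInstance
  haveI : Etale y₀ := inferInstance
  haveI : CompactSpace ↥(pullback t₁ inW) := QuasiCompact.compactSpace_of_compactSpace x₀
  haveI : CompactSpace ↥(pullback q inO) := QuasiCompact.compactSpace_of_compactSpace y₀
  haveI : QuasiSeparatedSpace ↥(pullback t₁ inW) := quasiSeparatedSpace_of_quasiSeparated x₀
  haveI : QuasiSeparatedSpace ↥(pullback q inO) := quasiSeparatedSpace_of_quasiSeparated y₀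
  -- the two restrictions to the punctured local scheme
  have hPO : P = (nhdCone W₀ x).π.app k ⁻¹ᵁ O := by
    change _ = k.1.fromSpecStalkOfMem x k.2.1 ⁻¹ᵁ (k.1.ι ⁻¹ᵁ W)
    rw [← Scheme.Hom.comp_preimage, Scheme.Opens.fromSpecStalkOfMem_ι]
  let π₀ : c'.pt ⟶ D'.obj k₀ := c'.π.app k₀
  let σ : c'.pt ⟶ (P : Scheme.{u}) := (Spec (X.presheaf.stalk x)).homOfLE hPO.ge
  haveI : IsIso σ := ⟨(Spec (X.presheaf.stalk x)).homOfLE hPO.le,
    by rw [Scheme.homOfLE_homOfLE, Scheme.homOfLE_rfl]; rfl,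
    by rw [Scheme.homOfLE_homOfLE, Scheme.homOfLE_rfl]⟩
  have hπO : π₀ ≫ inO = σ ≫ P.ι ≫ k.1.fromSpecStalkOfMem x k.2.1 := by
    simp only [π₀, σ, inO, Scheme.homOfLE_ι_assoc]
    rw [← Category.assoc, show c'.π.app k₀ ≫ ((nhdDiagram W₀ x).map k₀.hom ⁻¹ᵁ O).ι = _ from
      Scheme.Hom.resLE_comp_ι _ _, Category.assoc]
    exact congrArg (((nhdCone W₀ x).π.app k ⁻¹ᵁ O).ι ≫ ·) ((nhdCone W₀ x).w k₀.hom)
  have hπW : π₀ ≫ inW = σ ≫ r := by
    rw [← cancel_mono W.ι, Category.assoc, hinW, reassoc_of% hπO, Category.assoc, morphismRestrict_ι,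
      Scheme.Opens.fromSpecStalkOfMem_ι]
  let Z := pullback (pullback.snd t₁ r) σ
  have hZ₁ : IsPullback (pullback.fst (pullback.snd t₁ r) σ ≫ pullback.fst t₁ r)
      (pullback.snd (pullback.snd t₁ r) σ) t₁ (π₀ ≫ inW) := by
    rw [hπW]
    exact (IsPullback.of_hasPullback _ _).paste_horiz (IsPullback.of_hasPullback t₁ r)
  have hZ₂ : IsPullback ((pullback.fst (pullback.snd t₁ r) σ ≫ eL.inv ≫ pullback.fst Y.hom P.ι) ≫ τ)
      (pullback.snd (pullback.snd t₁ r) σ) q (π₀ ≫ inO) := by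
    rw [hπO, ← Category.assoc]
    have h0 : IsPullback (eL.inv ≫ pullback.fst Y.hom P.ι) (pullback.snd t₁ r) Y.hom P.ι :=
      (IsPullback.of_hasPullback Y.hom P.ι).of_iso eL (Iso.refl _) (Iso.refl _) (Iso.refl _)
        (by simp) (by simp [heL]) (by simp) (by simp)
    exact ((IsPullback.of_hasPullback _ σ).paste_horiz h0).paste_horiz hτ
  let a₁ : Z ⟶ pullback t₁ inW := pullback.lift
    (pullback.fst (pullback.snd t₁ r) σ ≫ pullback.fst t₁ r) (pullback.snd (pullback.snd t₁ r) σ ≫ π₀)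
    (by rw [hZ₁.w, Category.assoc])
  let a₂ : Z ⟶ pullback q inO := pullback.lift
    ((pullback.fst (pullback.snd t₁ r) σ ≫ eL.inv ≫ pullback.fst Y.hom P.ι) ≫ τ)
    (pullback.snd (pullback.snd t₁ r) σ ≫ π₀) (by rw [hZ₂.w, Category.assoc])
  have ha₁ : IsPullback a₁ (pullback.snd (pullback.snd t₁ r) σ) x₀ π₀ :=
    IsPullback.of_right (by rw [show a₁ ≫ pullback.fst t₁ inW = _ from pullback.lift_fst _ _ _]; exact hZ₁)
      (pullback.lift_snd _ _ _) (IsPullback.of_hasPullback t₁ inW)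
  have ha₂ : IsPullback a₂ (pullback.snd (pullback.snd t₁ r) σ) y₀ π₀ :=
    IsPullback.of_right (by rw [show a₂ ≫ pullback.fst q inO = _ from pullback.lift_fst _ _ _]; exact hZ₂)
      (pullback.lift_snd _ _ _) (IsPullback.of_hasPullback q inO)
  let e : pullback x₀ π₀ ≅ pullback y₀ π₀ := ha₁.isoPullback.symm ≪≫ ha₂.isoPullback
  have he : e.hom ≫ pullback.snd _ _ = pullback.snd _ _ := by
    simp [e]
  obtain ⟨j, φ, ej, hej, -⟩ := exists_iso_stage D' x₀ lim' y₀ e he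
  -- the common stage
  let Oj := (nhdDiagram W₀ x).map j.hom ⁻¹ᵁ O
  let o₂ : D'.obj j ⟶ (j.left.1 : Scheme.{u}) := Oj.ι
  let o₁ : D'.obj j ⟶ (W : Scheme.{u}) := D'.map φ ≫ inW
  let dj : (j.left.1 : Scheme.{u}) ⟶ (k.1 : Scheme.{u}) := (nhdDiagram W₀ x).map j.hom
  have hdj : dj ≫ k.1.ι = j.left.1.ι := X.homOfLE_ι (leOfHom j.hom : j.left ≤ k)
  have hφO : D'.map φ ≫ inO = o₂ ≫ dj := by
    simp only [inO, ← Category.assoc]
    rw [show D'.map φ ≫ ((nhdDiagram W₀ x).map k₀.hom ⁻¹ᵁ O).ι = _ from Scheme.Hom.resLE_comp_ι _ _,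
      Category.assoc, ← Functor.map_comp]
    exact congrArg (fun m => Oj.ι ≫ (nhdDiagram W₀ x).map m) (Subsingleton.elim _ _)
  have ho : o₁ ≫ W.ι = o₂ ≫ j.left.1.ι := by
    simp only [o₁, Category.assoc, hinW, reassoc_of% hφO, hdj]
  have hO : IsPullback o₁ o₂ W.ι j.left.1.ι :=
    IsOpenImmersion.isPullback o₁ o₂ W.ι j.left.1.ι ho.symm (by
      rw [Scheme.Opens.opensRange_ι, Scheme.Opens.opensRange_ι]
      change j.left.1.ι ⁻¹ᵁ W = dj ⁻¹ᵁ (k.1.ι ⁻¹ᵁ W)
      rw [← Scheme.Hom.comp_preimage, hdj])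
  haveI : IsFinite (pullback.snd q dj) := inferInstance
  let Zj := pullback x₀ (D'.map φ)
  have hg₁ : IsPullback (pullback.fst x₀ (D'.map φ) ≫ pullback.fst t₁ inW) (pullback.snd x₀ (D'.map φ)) t₁ o₁ :=
    (IsPullback.of_hasPullback _ _).paste_horiz (IsPullback.of_hasPullback t₁ inW)
  have hg₂' : IsPullback (ej.hom ≫ pullback.fst y₀ (D'.map φ) ≫ pullback.fst q inO)
      (pullback.snd x₀ (D'.map φ)) q (o₂ ≫ dj) := by
    rw [← hφO]
    exact ((IsPullback.of_hasPullback _ _).paste_horiz (IsPullback.of_hasPullback q inO)).of_iso ej.symm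
      (Iso.refl _) (Iso.refl _) (Iso.refl _) (by simp; rfl) (by rw [Iso.symm_hom, Iso.refl_hom, Category.comp_id,
        Iso.eq_inv_comp, hej]) (by simp) (by simp)
  let g₂ : Zj ⟶ pullback q dj := pullback.lift (ej.hom ≫ pullback.fst y₀ (D'.map φ) ≫ pullback.fst q inO)
    (pullback.snd x₀ (D'.map φ) ≫ o₂) (by rw [hg₂'.w, Category.assoc])
  have hg₂ : IsPullback g₂ (pullback.snd x₀ (D'.map φ)) (pullback.snd q dj) o₂ :=
    IsPullback.of_right (by rw [show g₂ ≫ pullback.fst q dj = _ from pullback.lift_fst _ _ _]; exact hg₂')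
      (pullback.lift_snd _ _ _) (IsPullback.of_hasPullback q dj)
  obtain ⟨T, t, ht, γ, hγ⟩ := exists_glue_cover o₁ o₂ hO t₁ h₁ (pullback.snd q dj)
    ⟨inferInstance, inferInstance⟩ _ _ _ hg₁ hg₂
  exact ⟨W ⊔ j.left.1, le_sup_left, (le_sup_right : j.left.1 ≤ W ⊔ j.left.1) j.left.2.1, T, t, ht, γ, hγ⟩

/-- Extension across one point where purity holds. -/
theorem exists_extend_step {W : X.Opens} {T₁ : Scheme.{u}} (t₁ : T₁ ⟶ (W : Scheme.{u})) (h₁ : FEt.prop t₁)
    {x : X} (hx : x ∉ W) (hgen : ∀ y, y ⤳ x → y ≠ x → y ∈ W)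
    (hp : FEt.PurityHolds (X.presheaf.stalk x)) :
    ∃ (W' : X.Opens) (hle : W ≤ W'), x ∈ W' ∧
      ∃ (T : Scheme.{u}) (t : T ⟶ (W' : Scheme.{u})) (_ : FEt.prop t) (γ : T₁ ⟶ T),
        IsPullback γ t₁ t (X.homOfLE hle) := by
  haveI : (FEt.restrict (X.fromSpecStalk x ⁻¹ᵁ W).ι).EssSurj := by
    rw [show X.fromSpecStalk x ⁻¹ᵁ W = FEt.puncturedSpec (X.presheaf.stalk x) from
      preimage_fromSpecStalk_eq hx hgen]
    exact hp
  exact exists_extend_step_of_mem t₁ h₁ hx (Functor.EssSurj.mem_essImage (F := FEt.restrict (X.fromSpecStalk x ⁻¹ᵁ W).ι) _)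

/-- A single cover extends when, at every outside point, purity holds or the cover extends over the local scheme. -/
theorem exists_extension (U : X.Opens) (V : FEt.Cat (U : Scheme.{u}))
    (h : ∀ x : X, x ∉ U → FEt.PurityHolds (X.presheaf.stalk x) ∨
      ∀ (W : X.Opens) (hUW : U ≤ W) (T : Scheme.{u}) (t : T ⟶ (W : Scheme.{u})) (ht : FEt.prop t) (γ : V.left ⟶ T),
        IsPullback γ V.hom t (X.homOfLE hUW) → x ∉ W → (∀ y, y ⤳ x → y ≠ x → y ∈ W) →
          (FEt.restrict (X.fromSpecStalk x ⁻¹ᵁ W).ι).essImage (localCover t ht x)) :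
    ∃ Z : FEt.Cat X, Nonempty ((FEt.restrict U.ι).obj Z ≅ V) := by
  let S : Set X.Opens := {W | ∃ hUW : U ≤ W, ∃ (T : Scheme.{u}) (t : T ⟶ (W : Scheme.{u})) (_ : FEt.prop t)
    (γ : V.left ⟶ T), IsPullback γ V.hom t (X.homOfLE hUW)}
  haveI : IsIso (𝟙 (U : Scheme.{u})) := IsIso.id (U : Scheme.{u})
  haveI : IsIso (𝟙 V.left) := IsIso.id V.left
  have hS : U ∈ S := ⟨le_rfl, V.left, V.hom, V.prop, 𝟙 _, by
    rw [Scheme.homOfLE_rfl]
    exact IsPullback.of_horiz_isIso ⟨(Category.id_comp _).trans (Category.comp_id _).symm⟩⟩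
  obtain ⟨W, ⟨hUW, T, t, ht, γ, hγ⟩, hmax⟩ :=
    (wellFounded_gt : WellFounded ((· > ·) : X.Opens → X.Opens → Prop)).has_min S ⟨U, hS⟩
  have hW : W = ⊤ := by
    by_contra hW
    obtain ⟨x, hx, hxmax⟩ := exists_generic (Z := (W : Set X)ᶜ) W.isOpen.isClosed_compl
      (Set.nonempty_compl.2 fun hh => hW (Opens.ext hh))
    have hgen : ∀ y, y ⤳ x → y ≠ x → y ∈ W := fun y hy hne => not_not.1 fun hyW => hne (hxmax y hyW hy)
    have hmain : ∃ (W' : X.Opens) (hle : W ≤ W'), x ∈ W' ∧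
        ∃ (T' : Scheme.{u}) (t' : T' ⟶ (W' : Scheme.{u})) (_ : FEt.prop t') (γ' : T ⟶ T'),
          IsPullback γ' t t' (X.homOfLE hle) := by
      rcases h x fun hxU => hx (hUW hxU) with hp | hB
      · exact exists_extend_step t ht hx hgen hp
      · exact exists_extend_step_of_mem t ht hx (hB W hUW T t ht γ hγ hx hgen)
    obtain ⟨W', hle, hxW', T', t', ht', γ', hγ'⟩ := hmain
    refine hmax W' ⟨hUW.trans hle, T', t', ht', γ ≫ γ', ?_⟩ (lt_of_le_of_ne hle fun he => hx (he ▸ hxW'))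
    rw [← X.homOfLE_homOfLE hUW hle]
    exact hγ.paste_horiz hγ'
  subst hW
  haveI : IsIso (⊤ : X.Opens).ι := X.topIso.isIso_hom
  have hA : FEt.prop (t ≫ (⊤ : X.Opens).ι) := MorphismProperty.comp_mem _ _ _ ht ⟨inferInstance, inferInstance⟩
  refine ⟨MorphismProperty.Over.mk ⊤ (t ≫ (⊤ : X.Opens).ι) hA, ⟨?_⟩⟩
  have H : IsPullback γ V.hom (t ≫ (⊤ : X.Opens).ι) U.ι :=
    hγ.of_iso (Iso.refl _) (Iso.refl _) (Iso.refl _) (asIso (⊤ : X.Opens).ι) (by simp) (by simp) (by simp)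
      (by simp)
  exact MorphismProperty.Over.isoMk H.isoPullback.symm (by
    rw [Iso.symm_hom, Iso.inv_comp_eq]; exact H.isoPullback_hom_snd.symm)

/-- Purity at all points outside an open gives essential surjectivity of restriction. -/
theorem restrict_essSurj_of_purity (U : X.Opens)
    (h : ∀ x : X, x ∉ U → FEt.PurityHolds (X.presheaf.stalk x)) : (FEt.restrict U.ι).EssSurj := by
  exact ⟨fun V => exists_extension U V fun x hx => Or.inl (h x hx)⟩

end Groth.Pi1Purity
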