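import Groth.Agent.Purity.Core
import Groth.Agent.Pi1Depth.Basic
import Groth.Agent.S1185
import Groth.Agent.Ega4Algebra1.RegularNormal
import Mathlib.RingTheory.Regular.Flat

/-!
# Purity for a regular local ring
-/

universe u

set_option autoImplicit false
set_option backward.isDefEq.respectTransparency false
set_option linter.style.haveILetI false

open CategoryTheory CategoryTheory.Limits AlgebraicGeometry TopologicalSpace IsLocalRing

namespace Groth.Pi1Purity

/-- A regular pair stays regular on a flat algebra. -/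
theorem regPair_of_flat {A M : Type u} [CommRing A] [CommRing M] [Algebra A M] [Module.Flat A M] {g h : A}
    (H : Purity.RegPair A g h) : Purity.RegPair M g h := by
  have hw : RingTheory.Sequence.IsWeaklyRegular A [g, h] := by
    rw [RingTheory.Sequence.isWeaklyRegular_cons_iff, RingTheory.Sequence.isWeaklyRegular_singleton_iff]
    refine ⟨isSMulRegular_iff_right_eq_zero_of_smul.2 H.reg, ?_⟩
    rw [isSMulRegular_iff_right_eq_zero_of_smul]
    intro x hx
    obtain ⟨a, rfl⟩ := Submodule.Quotient.mk_surjective _ x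
    rw [← Submodule.Quotient.mk_smul, Submodule.Quotient.mk_eq_zero,
      Submodule.mem_smul_pointwise_iff_exists] at hx
    obtain ⟨b, -, hb⟩ := hx
    obtain ⟨c, rfl⟩ := H.mem a b hb.symm
    exact (Submodule.Quotient.mk_eq_zero _).2 (Submodule.smul_mem_pointwise_smul c g ⊤ Submodule.mem_top)
  have hM := hw.of_flat (S := M)
  have hM' : RingTheory.Sequence.IsWeaklyRegular M [g, h] := by
    have := (RingTheory.Sequence.isWeaklyRegular_map_algebraMap_iff M M [g, h]).1 hM
    exact this
  rw [RingTheory.Sequence.isWeaklyRegular_cons_iff, RingTheory.Sequence.isWeaklyRegular_singleton_iff] at hM'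
  refine ⟨isSMulRegular_iff_right_eq_zero_of_smul.1 hM'.1, fun a b hab => ?_⟩
  have h2 := isSMulRegular_iff_right_eq_zero_of_smul.1 hM'.2 (Submodule.Quotient.mk a) (by
    rw [← Submodule.Quotient.mk_smul, Submodule.Quotient.mk_eq_zero, hab]
    exact Submodule.smul_mem_pointwise_smul b g ⊤ Submodule.mem_top)
  rw [Submodule.Quotient.mk_eq_zero, Submodule.mem_smul_pointwise_iff_exists] at h2
  obtain ⟨c, -, hc⟩ := h2
  exact ⟨c, hc.symm⟩

/-- Zariski–Nagata purity for the punctured spectrum. -/
theorem purityHolds_of_isRegularLocalRing (A : Type u) [CommRing A] [IsRegularLocalRing A]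
    (hdim : (2 : WithBot ℕ∞) ≤ ringKrullDim A) : FEt.PurityHolds A := by
  have : IsDomain A := Groth.Ega4Algebra1.isDomain_of_isRegularLocalRing A
  have : IsIntegrallyClosed A := Groth.Ega4Algebra1.isIntegrallyClosed_of_isRegularLocalRing A
  refine ⟨fun V => ?_⟩
  obtain ⟨hfin, hiff⟩ := Groth.Agent.S1185.result A hdim V
  refine hiff.2 ?_
  let X := Spec (CommRingCat.of A)
  let U := FEt.puncturedSpec A
  let f : V.left ⟶ X := V.hom ≫ U.ι
  let e : A →+* Γ(X, ⊤) := (Scheme.ΓSpecIso (CommRingCat.of A)).inv.hom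
  let φ : A →+* Γ(V.left, ⊤) := f.appTop.hom.comp e
  change φ.Finite at hfin
  change φ.Etale
  algebraize [φ]
  rw [show φ = algebraMap A Γ(V.left, ⊤) from rfl, RingHom.etale_algebraMap]
  haveI : IsFinite V.hom := V.prop.1
  haveI : Etale V.hom := V.prop.2
  haveI : CompactSpace (U : Scheme.{u}) :=
    isCompact_iff_compactSpace.1 (TopologicalSpace.NoetherianSpace.isCompact _)
  let π : V.left ⟶ (U : Scheme.{u}) := V.hom
  haveI : IsFinite π := V.prop.1
  haveI : CompactSpace V.left := QuasiCompact.compactSpace_of_compactSpace π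
  haveI : QuasiSeparatedSpace V.left := by
    haveI : IsSeparated f := inferInstance
    exact (quasiSeparated_iff_quasiSeparatedSpace f).1 inferInstance
  obtain ⟨d, hd⟩ : ∃ d : ℕ, ringKrullDim A = ((d + 2 : ℕ) : WithBot ℕ∞) := by
    obtain ⟨n, hn⟩ : ∃ n : ℕ, ringKrullDim A = (n : WithBot ℕ∞) :=
      ⟨_, (IsRegularLocalRing.spanFinrank_maximalIdeal (R := A)).symm⟩
    rw [hn] at hdim
    have h2 : 2 ≤ n := by exact_mod_cast hdim
    exact ⟨n - 2, by rw [hn, Nat.sub_add_cancel h2]⟩
  obtain ⟨g, hg, hg0, h, hh, HA, -, -⟩ := Purity.exists_regPair (A := A) hd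
  let W : A → V.left.Opens := fun c => V.left.basicOpen (φ c)
  have hWaff : ∀ c ∈ maximalIdeal A, IsAffineOpen (W c) ∧
      (f.appLE ⊤ (W c) le_top).hom.Etale := by
    intro c hc
    have hD : X.basicOpen (e c) ≤ U := by
      intro x hx
      rw [basicOpen_eq_of_affine] at hx
      intro hxm
      have hxm' : x = closedPoint A := hxm
      exact hx (hxm' ▸ hc)
    have hWeq : W c = f ⁻¹ᵁ X.basicOpen (e c) := by rw [Scheme.preimage_basicOpen_top]; rfl
    have hWa : IsAffineOpen (W c) := by
      rw [hWeq]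
      change IsAffineOpen (V.hom ⁻¹ᵁ (U.ι ⁻¹ᵁ X.basicOpen (e c)))
      refine IsAffineOpen.preimage ?_ V.hom
      rw [← Scheme.Hom.isAffineOpen_iff_of_isOpenImmersion U.ι,
        Scheme.Hom.image_preimage_eq_opensRange_inf, Scheme.Opens.opensRange_ι, inf_eq_right.2 hD]
      exact (isAffineOpen_top X).basicOpen _
    exact ⟨hWa, HasRingHomProperty.appLE (P := @Etale) f inferInstance ⟨⊤, isAffineOpen_top X⟩
      ⟨W c, hWa⟩ le_top⟩
  have hloc : ∀ c : A, IsLocalization.Away (algebraMap A Γ(V.left, ⊤) c) Γ(V.left, W c) := fun c =>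
    isLocalization_basicOpen_of_qcqs isCompact_univ isQuasiSeparated_univ (φ c)
  have het : ∀ c ∈ maximalIdeal A, @Algebra.Etale A Γ(V.left, W c) _ _
      (((algebraMap Γ(V.left, ⊤) Γ(V.left, W c)).comp φ).toAlgebra) := by
    intro c hc
    have h1 := (hWaff c hc).2
    have h2 : (algebraMap Γ(V.left, ⊤) Γ(V.left, W c)).comp φ = (f.appLE ⊤ (W c) le_top).hom.comp e := rfl
    change RingHom.Etale _
    rw [h2]
    exact RingHom.Etale.respectsIso.2 _ (Scheme.ΓSpecIso (CommRingCat.of A)).symm.commRingCatIsoToRingEquiv h1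
  let res : ∀ {c : A}, Γ(V.left, ⊤) →+* Γ(V.left, W c) := fun {c} => algebraMap _ _
  have hres : ∀ c ∈ maximalIdeal A,
      (∀ x : Γ(V.left, W c), res (c := c) (φ g) * x = 0 → x = 0) ∧
      ∀ a b : Γ(V.left, W c), res (c := c) (φ h) * a = res (c := c) (φ g) * b →
        ∃ t : Γ(V.left, W c), a = res (c := c) (φ g) * t := by
    intro c hc
    letI : Algebra A Γ(V.left, W c) := (((algebraMap Γ(V.left, ⊤) Γ(V.left, W c)).comp φ)).toAlgebra
    haveI : Algebra.Etale A Γ(V.left, W c) := het c hc
    obtain ⟨h1, h2⟩ := regPair_of_flat (M := Γ(V.left, W c)) HA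
    exact ⟨fun x hx => h1 x (by rw [Algebra.smul_def]; exact hx),
      fun a b hab => (h2 a b (by rw [Algebra.smul_def, Algebra.smul_def]; exact hab)).imp
        fun t ht => by rw [ht, Algebra.smul_def]; rfl⟩
  let ι := {c : A // c ∈ maximalIdeal A}
  have hcov : ⊤ ≤ ⨆ c : ι, W c.1 := by
    intro x _
    by_contra hx
    simp only [Opens.mem_iSup, not_exists] at hx
    apply (V.hom x).2
    change U.ι (V.hom x) = closedPoint A
    refine PrimeSpectrum.ext (le_antisymm (le_maximalIdeal (U.ι (V.hom x)).isPrime.ne_top) ?_)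
    intro c hc
    by_contra hni
    refine hx ⟨c, hc⟩ ?_
    change x ∈ V.left.basicOpen (f.appTop (e c))
    rw [← Scheme.preimage_basicOpen_top]
    change U.ι (V.hom x) ∈ X.basicOpen (e c)
    rw [basicOpen_eq_of_affine]
    exact hni
  have HB : Purity.RegPair Γ(V.left, ⊤) g h := by
    constructor
    · intro b hb
      refine TopCat.Sheaf.eq_of_locally_eq' V.left.sheaf (fun c : ι => W c.1) ⊤
        (fun c => homOfLE le_top) hcov _ _ fun c => ?_
      change res (c := c.1) b = res (c := c.1) 0
      rw [map_zero]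
      refine (hres c.1 c.2).1 _ ?_
      rw [← map_mul, show φ g * b = g • b from (Algebra.smul_def _ _).symm, hb, map_zero]
    · intro a b hab
      have key : ∀ c : ι, ∃ t : Γ(V.left, W c.1), res (c := c.1) a = res (c := c.1) (φ g) * t := fun c =>
        (hres c.1 c.2).2 _ (res (c := c.1) b) (by
          rw [← map_mul, ← map_mul]; exact congrArg (res (c := c.1)) hab)
      choose t ht using key
      have hnat : ∀ (c c' : A) (hle : W c' ≤ W c) (y : Γ(V.left, ⊤)),
          V.left.presheaf.map (homOfLE hle).op (res (c := c) y) = res (c := c') y := fun c c' hle y =>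
        ConcreteCategory.congr_hom ((V.left.presheaf.map_comp (homOfLE le_top).op (homOfLE hle).op).symm) y
      obtain ⟨(s : Γ(V.left, ⊤)), hs, -⟩ := TopCat.Sheaf.existsUnique_gluing' V.left.sheaf (fun c : ι => W c.1) ⊤
        (fun c => homOfLE le_top) hcov t fun c c' => by
        let cc : ι := ⟨c.1 * c'.1, Ideal.mul_mem_left _ _ c'.2⟩
        have hW : W cc.1 = W c.1 ⊓ W c'.1 := by
          change V.left.basicOpen (φ (c.1 * c'.1)) = _
          rw [map_mul, Scheme.basicOpen_mul]
        have hle1 : W cc.1 ≤ W c.1 := hW.le.trans inf_le_left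
        have hle2 : W cc.1 ≤ W c'.1 := hW.le.trans inf_le_right
        have h1 : V.left.presheaf.map (homOfLE hle1).op (t c) = V.left.presheaf.map (homOfLE hle2).op (t c') := by
          rw [← sub_eq_zero]
          refine (hres cc.1 cc.2).1 _ ?_
          rw [mul_sub]
          conv_lhs => arg 1; rw [← hnat c.1 cc.1 hle1, ← map_mul, ← ht, hnat]
          conv_lhs => arg 2; rw [← hnat c'.1 cc.1 hle2, ← map_mul, ← ht, hnat]
          rw [sub_self]
        have := congrArg (V.left.presheaf.map (homOfLE hW.ge).op) h1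
        rw [← ConcreteCategory.comp_apply, ← ConcreteCategory.comp_apply, ← Functor.map_comp, ← Functor.map_comp] at this
        exact this
      refine ⟨s, TopCat.Sheaf.eq_of_locally_eq' V.left.sheaf (fun c : ι => W c.1) ⊤
        (fun c => homOfLE le_top) hcov _ _ fun c => ?_⟩
      change res (c := c.1) a = res (c := c.1) (g • s)
      rw [Algebra.smul_def, map_mul, ht c]
      congr 1
      exact (hs c).symm
  refine Purity.etale_of_etale_punctured d A hd Γ(V.left, ⊤) g h hg hh hg0 HB fun c hc => ?_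
  letI : Algebra A Γ(V.left, W c) := (((algebraMap Γ(V.left, ⊤) Γ(V.left, W c)).comp φ)).toAlgebra
  haveI : Algebra.Etale A Γ(V.left, W c) := het c hc
  haveI := hloc c
  haveI : IsScalarTower A Γ(V.left, ⊤) Γ(V.left, W c) := IsScalarTower.of_algebraMap_eq fun _ => rfl
  exact Algebra.Etale.of_equiv (((IsLocalization.algEquiv (Submonoid.powers (algebraMap A Γ(V.left, ⊤) c))
    Γ(V.left, W c) (Localization.Away (algebraMap A Γ(V.left, ⊤) c))).restrictScalars A))

end Groth.Pi1Purity
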