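import Groth.Agent.Pi1Purity.DescendAffine
import Mathlib.AlgebraicGeometry.Normalization
import Mathlib.AlgebraicGeometry.Morphisms.Finite

/-!
# Descent of extensions of finite étale covers along faithfully flat quasi-compact morphisms
-/

universe u

set_option autoImplicit false
set_option linter.style.haveILetI false
set_option linter.unusedSectionVars false
set_option backward.isDefEq.respectTransparency false
set_option backward.defeqAttrib.useBackward true

open CategoryTheory CategoryTheory.Limits AlgebraicGeometry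

namespace Groth.Pi1Purity

/-- Finite étale covers of the preimage of `U` extend over all affine schemes open in `X₁`. -/
def ExtendsOnAffines {X X₁ : Scheme.{u}} (g : X₁ ⟶ X) (U : X.Opens) : Prop :=
  ∀ (T : Scheme.{u}) (i : T ⟶ X₁), IsOpenImmersion i → IsAffine T →
    ∀ (P : Scheme.{u}) (a : P ⟶ (U : Scheme.{u})) (b : P ⟶ T), IsPullback a b U.ι (i ≫ g) →
      ∀ W₀ : FEt.Cat P, ∃ (V : FEt.Cat T) (z : W₀.left ⟶ V.left), IsPullback W₀.hom z b V.hom

variable {X X₁ : Scheme.{u}} [IsLocallyNoetherian X] (g : X₁ ⟶ X) [Flat g] [Surjective g] [QuasiCompact g]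
  {U : X.Opens} (hbij : ∀ O : X.Opens, Function.Bijective (U.ι.app O)) (hext : ExtendsOnAffines g U)
  {W : Scheme.{u}} (w : W ⟶ (U : Scheme.{u})) [IsFinite w] [Etale w]

theorem compactSpace_preimage (O : X.affineOpens) : CompactSpace (U.ι ⁻¹ᵁ O.1 : Scheme.{u}) :=
  isCompact_iff_compactSpace.1 (U.ι.isCompact_preimage O.2.isCompact)

include hbij in
theorem isIso_appTop_restrict (O : X.affineOpens) : IsIso (U.ι ∣_ O.1).appTop := by
  rw [ConcreteCategory.isIso_iff_bijective, morphismRestrict_appTop]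
  exact (ConcreteCategory.bijective_of_isIso
    ((U : Scheme.{u}).presheaf.map (eqToHom (image_morphismRestrict_preimage U.ι O.1 ⊤)).op)).comp (hbij _)

include hbij hext in
/-- Over an affine open, the hull of the cover is finite étale. -/
theorem prop_hull (O : X.affineOpens) :
    haveI := compactSpace_preimage (U := U) O
    haveI := isIso_appTop_restrict hbij O
    haveI : IsAffine (O.1 : Scheme.{u}) := O.2
    FEt.prop (hull (U.ι ∣_ O.1) (w ∣_ (U.ι ⁻¹ᵁ O.1))) := by
  haveI := compactSpace_preimage (U := U) O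
  haveI := isIso_appTop_restrict hbij O
  haveI : IsAffine (O.1 : Scheme.{u}) := O.2
  let j := U.ι ∣_ O.1
  let wO := w ∣_ (U.ι ⁻¹ᵁ O.1)
  let q := g ∣_ O.1
  have hq : EtaleBase.Fpqc q := by
    refine ⟨⟨?_, ?_⟩, ?_⟩
    · exact MorphismProperty.of_isPullback (isPullback_morphismRestrict g O.1).flip (inferInstance : Surjective g)
    · exact MorphismProperty.of_isPullback (isPullback_morphismRestrict g O.1).flip (inferInstance : Flat g)
    · exact MorphismProperty.of_isPullback (isPullback_morphismRestrict g O.1).flip (inferInstance : QuasiCompact g)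
  haveI : Flat q := hq.1.2
  have key : ∀ T : (g ⁻¹ᵁ O.1 : Scheme.{u}).affineOpens,
      FEt.prop (pullback.snd (hull j wO) (T.1.ι ≫ q)) := by
    intro T
    haveI : IsAffine (T.1 : Scheme.{u}) := T.2
    let h := T.1.ι ≫ q
    haveI : Flat h := MorphismProperty.comp_mem _ _ _ inferInstance inferInstance
    have hU : IsPullback (pullback.fst j h ≫ (U.ι ⁻¹ᵁ O.1).ι) (pullback.snd j h) U.ι
        ((T.1.ι ≫ (g ⁻¹ᵁ O.1).ι) ≫ g) := by
      rw [Category.assoc, ← morphismRestrict_ι, ← Category.assoc]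
      exact (IsPullback.of_hasPullback j h).paste_horiz (isPullback_morphismRestrict U.ι O.1).flip
    obtain ⟨V, z, hz⟩ := hext _ (T.1.ι ≫ (g ⁻¹ᵁ O.1).ι) (MorphismProperty.comp_mem _ _ _ inferInstance inferInstance)
      T.2 _ _ _ hU (MorphismProperty.Over.mk ⊤ (pullback.snd wO (pullback.fst j h)) ⟨inferInstance, inferInstance⟩)
    exact prop_pullback_hull j wO h V hz (IsPullback.of_hasPullback wO (pullback.fst j h))
  have loc : ∀ (P : MorphismProperty Scheme.{u}) [IsZariskiLocalAtTarget P],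
      (∀ T : (g ⁻¹ᵁ O.1 : Scheme.{u}).affineOpens, P (pullback.snd (hull j wO) (T.1.ι ≫ q))) →
      P (pullback.snd (hull j wO) q) := by
    intro P _ h
    rw [IsZariskiLocalAtTarget.iff_of_iSup_eq_top (P := P)
      (fun T : (g ⁻¹ᵁ O.1 : Scheme.{u}).affineOpens => T.1) (iSup_affineOpens_eq_top _)]
    intro T
    have h1 := (isPullback_morphismRestrict (pullback.snd (hull j wO) q) T.1).flip.paste_horiz
      (IsPullback.of_hasPullback (hull j wO) q)
    rw [← h1.isoPullback_hom_snd, MorphismProperty.cancel_left_of_respectsIso (P := P)]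
    exact h T
  exact ⟨MorphismProperty.of_pullback_snd_of_descendsAlong (Q := EtaleBase.Fpqc) hq
      (loc _ fun T => (key T).1),
    MorphismProperty.of_pullback_snd_of_descendsAlong (Q := EtaleBase.Fpqc) hq
      (loc _ fun T => (key T).2)⟩

/-- The restriction of the composite cover to an affine open. -/
theorem restrict_comp_eq (O : X.affineOpens) :
    (w ≫ U.ι) ∣_ O.1 = (w ∣_ (U.ι ⁻¹ᵁ O.1)) ≫ (U.ι ∣_ O.1) := morphismRestrict_comp w U.ι O.1

include hbij hext in
theorem prop_app (O : X.affineOpens) : FEt.prop (Spec.map ((w ≫ U.ι).app O.1)) := by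
  haveI := compactSpace_preimage (U := U) O
  haveI := isIso_appTop_restrict hbij O
  haveI : IsAffine (O.1 : Scheme.{u}) := O.2
  have h := prop_hull g hbij hext w O
  rw [hull, MorphismProperty.cancel_right_of_respectsIso (P := FEt.prop), ← restrict_comp_eq,
    morphismRestrict_appTop, Spec.map_comp, MorphismProperty.cancel_left_of_respectsIso (P := FEt.prop)] at h
  have hnat := (w ≫ U.ι).naturality (eqToHom O.1.ι_image_top).op
  have h2 : Spec.map ((w ≫ U.ι).app (O.1.ι ''ᵁ ⊤)) ≫ Spec.map (X.presheaf.map (eqToHom O.1.ι_image_top).op) =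
      Spec.map (W.presheaf.map ((TopologicalSpace.Opens.map (w ≫ U.ι).base).map (eqToHom O.1.ι_image_top)).op) ≫
        Spec.map ((w ≫ U.ι).app O.1) := by
    rw [← Spec.map_comp, ← Spec.map_comp]
    exact congrArg Spec.map hnat
  have h3 := (MorphismProperty.cancel_right_of_respectsIso (P := FEt.prop) _
    (Spec.map (X.presheaf.map (eqToHom O.1.ι_image_top).op))).2 h
  rw [h2] at h3
  exact (MorphismProperty.cancel_left_of_respectsIso (P := FEt.prop) _ _).1 h3

include hbij hext in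
theorem bijective_val (O : X.affineOpens) :
    letI := ((w ≫ U.ι).app O.1).hom.toAlgebra
    Function.Bijective (integralClosure Γ(X, O.1) Γ(W, (w ≫ U.ι) ⁻¹ᵁ O.1)).val := by
  letI := ((w ≫ U.ι).app O.1).hom.toAlgebra
  have hfin : ((w ≫ U.ι).app O.1).hom.Finite := (IsFinite.SpecMap_iff _).1 (prop_app g hbij hext w O).1
  haveI : Module.Finite Γ(X, O.1) Γ(W, (w ≫ U.ι) ⁻¹ᵁ O.1) := hfin
  exact ⟨Subtype.val_injective, fun z => ⟨⟨z, Algebra.IsIntegral.isIntegral z⟩, rfl⟩⟩

include hbij hext in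
theorem isIso_specVal (O : X.affineOpens) :
    letI := ((w ≫ U.ι).app O.1).hom.toAlgebra
    IsIso (Spec.map (CommRingCat.ofHom
      (integralClosure Γ(X, O.1) Γ(W, (w ≫ U.ι) ⁻¹ᵁ O.1)).val.toRingHom)) := by
  letI := ((w ≫ U.ι).app O.1).hom.toAlgebra
  haveI : IsIso (CommRingCat.ofHom (integralClosure Γ(X, O.1) Γ(W, (w ≫ U.ι) ⁻¹ᵁ O.1)).val.toRingHom) :=
    (ConcreteCategory.isIso_iff_bijective _).2 (bijective_val g hbij hext w O)
  infer_instance

include hbij hext in
theorem prop_fromNormalization : FEt.prop (w ≫ U.ι).fromNormalization := by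
  let f := w ≫ U.ι
  have key : ∀ O : X.affineOpens, FEt.prop (f.fromNormalization ∣_ O.1) := by
    intro O
    letI := (f.app O.1).hom.toAlgebra
    haveI : IsIso (Spec.map (CommRingCat.ofHom (integralClosure Γ(X, O.1) Γ(W, f ⁻¹ᵁ O.1)).val.toRingHom)) :=
      isIso_specVal g hbij hext w O
    let e := IsOpenImmersion.isoOfRangeEq (f.fromNormalization ⁻¹ᵁ O.1).ι (f.normalizationOpenCover.f O)
      (by simpa using congr($(f.fromNormalization_preimage O).1))
    have h1 : FEt.prop (Spec.map (f.normalizationDiagramMap.app (.op O.1))) := by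
      rw [← MorphismProperty.cancel_left_of_respectsIso (P := FEt.prop)
        (Spec.map (CommRingCat.ofHom (integralClosure Γ(X, O.1) Γ(W, f ⁻¹ᵁ O.1)).val.toRingHom)), ← Spec.map_comp]
      exact prop_app g hbij hext w O
    rw [← MorphismProperty.cancel_left_of_respectsIso FEt.prop e.inv,
      ← MorphismProperty.cancel_right_of_respectsIso FEt.prop _ O.2.isoSpec.hom]
    have h2 : (e.inv ≫ f.fromNormalization ∣_ O.1) ≫ O.2.isoSpec.hom =
        Spec.map (f.normalizationDiagramMap.app (.op O.1)) := by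
      rw [← cancel_mono O.2.fromSpec]
      simp [IsAffineOpen.isoSpec_hom, e, Scheme.Hom.ι_fromNormalization]
    exact h2.symm ▸ h1
  exact ⟨(IsZariskiLocalAtTarget.iff_of_iSup_eq_top (P := @IsFinite)
      (fun O : X.affineOpens => O.1) (iSup_affineOpens_eq_top _)).2 fun O => (key O).1,
    (IsZariskiLocalAtTarget.iff_of_iSup_eq_top (P := @Etale)
      (fun O : X.affineOpens => O.1) (iSup_affineOpens_eq_top _)).2 fun O => (key O).2⟩

include hbij hext in
theorem isPullback_toNormalization :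
    IsPullback w (w ≫ U.ι).toNormalization U.ι (w ≫ U.ι).fromNormalization := by
  let f := w ≫ U.ι
  have hopen : IsOpenImmersion f.toNormalization := by
    rw [IsZariskiLocalAtTarget.iff_of_iSup_eq_top (P := @IsOpenImmersion)
      (fun O : X.affineOpens => f.fromNormalization ⁻¹ᵁ O.1) (by
        rw [← Scheme.Hom.preimage_iSup, iSup_affineOpens_eq_top, Scheme.Hom.preimage_top])]
    intro O
    haveI := compactSpace_preimage (U := U) O
    haveI : IsAffine (O.1 : Scheme.{u}) := O.2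
    haveI : (U.ι ⁻¹ᵁ O.1 : Scheme.{u}).IsQuasiAffine := Scheme.IsQuasiAffine.of_isImmersion (U.ι ∣_ O.1)
    haveI : (f ⁻¹ᵁ O.1 : Scheme.{u}).IsQuasiAffine := Scheme.IsQuasiAffine.of_isAffineHom (w ∣_ (U.ι ⁻¹ᵁ O.1))
    haveI : IsOpenImmersion ((f ⁻¹ᵁ O.1).ι ≫ f.toNormalization) := by
      letI := (f.app O.1).hom.toAlgebra
      haveI : IsIso (Spec.map (CommRingCat.ofHom (integralClosure Γ(X, O.1) Γ(W, f ⁻¹ᵁ O.1)).val.toRingHom)) :=
        isIso_specVal g hbij hext w O
      rw [f.ι_toNormalization O, Scheme.Opens.toSpecΓ]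
      infer_instance
    have he : f.toNormalization ⁻¹ᵁ (f.fromNormalization ⁻¹ᵁ O.1) = f ⁻¹ᵁ O.1 := by
      rw [← Scheme.Hom.comp_preimage, f.toNormalization_fromNormalization]
    haveI : IsOpenImmersion ((f.toNormalization ∣_ (f.fromNormalization ⁻¹ᵁ O.1)) ≫ (f.fromNormalization ⁻¹ᵁ O.1).ι) := by
      rw [morphismRestrict_ι, ← (W.isoOfEq he).hom_inv_id_assoc (f.toNormalization ⁻¹ᵁ _).ι, Scheme.isoOfEq_inv_ι,
        Category.assoc]
      infer_instance
    exact IsOpenImmersion.of_comp _ (f.fromNormalization ⁻¹ᵁ O.1).ι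
  refine IsOpenImmersion.isPullback w _ U.ι _ f.toNormalization_fromNormalization ?_
  apply TopologicalSpace.Opens.ext
  rw [Scheme.Opens.opensRange_ι]
  refine Set.Subset.antisymm (fun y hy => ?_) ?_
  · obtain ⟨O, hyO⟩ : ∃ O : X.affineOpens, f.fromNormalization y ∈ O.1 := by
      obtain ⟨_, ⟨O, hO, rfl⟩, hyO, -⟩ :=
        X.isBasis_affineOpens.exists_subset_of_mem_open (Set.mem_univ (f.fromNormalization y)) isOpen_univ
      exact ⟨⟨O, hO⟩, hyO⟩
    haveI := compactSpace_preimage (U := U) O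
    haveI := isIso_appTop_restrict hbij O
    haveI : IsAffine (O.1 : Scheme.{u}) := O.2
    letI := (f.app O.1).hom.toAlgebra
    haveI : IsIso (Spec.map (CommRingCat.ofHom (integralClosure Γ(X, O.1) Γ(W, f ⁻¹ᵁ O.1)).val.toRingHom)) :=
      isIso_specVal g hbij hext w O
    obtain ⟨c, rfl⟩ := (f.fromNormalization_preimage O).le hyO
    let σ : (f ⁻¹ᵁ O.1 : Scheme.{u}) ⟶ f.normalization := (f ⁻¹ᵁ O.1).ι ≫ f.toNormalization
    let v := Spec.map (f ⁻¹ᵁ O.1).topIso.inv ≫
      Spec.map (CommRingCat.ofHom (integralClosure Γ(X, O.1) Γ(W, f ⁻¹ᵁ O.1)).val.toRingHom)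
    have hσ : σ = (f ⁻¹ᵁ O.1 : Scheme.{u}).toSpecΓ ≫ v ≫ f.normalizationOpenCover.f O := by
      simp only [σ, v, f.ι_toNormalization O, Scheme.Opens.toSpecΓ, Category.assoc]
    have hv : v ≫ f.normalizationOpenCover.f O ≫ f.fromNormalization =
        hull (U.ι ∣_ O.1) (w ∣_ (U.ι ⁻¹ᵁ O.1)) ≫ O.1.ι := by
      simp only [v, f.ι_fromNormalization, Category.assoc]
      have hval : Spec.map (CommRingCat.ofHom (integralClosure Γ(X, O.1) Γ(W, f ⁻¹ᵁ O.1)).val.toRingHom) ≫
          Spec.map (f.normalizationDiagramMap.app (.op O.1)) = Spec.map (f.app O.1) := (Spec.map_comp _ _).symm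
      rw [reassoc_of% hval, hull, ← restrict_comp_eq w O, Category.assoc]
      change _ = Spec.map (f ∣_ O.1).appTop ≫ _
      have h1 : (f ∣_ O.1).appTop = O.1.topIso.hom ≫ f.app O.1 ≫ (f ⁻¹ᵁ O.1).topIso.inv := by
        rw [morphismRestrict_appTop, Scheme.Hom.app_eq_appLE, Scheme.Hom.app_eq_appLE, Scheme.Hom.appLE_map,
          Scheme.Opens.topIso_hom, Scheme.Opens.topIso_inv, Scheme.Hom.appLE_map, Scheme.Hom.map_appLE]
        rfl
      rw [h1, Spec.map_comp, Spec.map_comp, Category.assoc, Category.assoc, IsAffineOpen.fromSpec]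
      simp [IsAffineOpen.isoSpec, -Scheme.Hom.comp_app]
    obtain ⟨d, hd⟩ : ∃ d, v d = c := ⟨inv v c, by rw [← Scheme.Hom.comp_apply, IsIso.inv_hom_id]; rfl⟩
    have hy' : (hull (U.ι ∣_ O.1) (w ∣_ (U.ι ⁻¹ᵁ O.1))) d ∈ Set.range (U.ι ∣_ O.1) := by
      have hmem : O.1.ι ((hull (U.ι ∣_ O.1) (w ∣_ (U.ι ⁻¹ᵁ O.1))) d) ∈ (U : Set X) := by
        rw [← Scheme.Hom.comp_apply, ← hv, Scheme.Hom.comp_apply, Scheme.Hom.comp_apply]
        erw [hd]
        exact hy
      refine ⟨⟨⟨_, hmem⟩, ((hull (U.ι ∣_ O.1) (w ∣_ (U.ι ⁻¹ᵁ O.1))) d).2⟩, ?_⟩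
      apply O.1.ι.isOpenEmbedding.injective
      rw [← Scheme.Hom.comp_apply, morphismRestrict_ι]
      rfl
    obtain ⟨y', hy'⟩ := hy'
    obtain ⟨p, -, hp⟩ := Scheme.exists_preimage_of_isPullback
      (isPullback_hull (U.ι ∣_ O.1) (w ∣_ (U.ι ⁻¹ᵁ O.1))) y' d hy'
    refine ⟨(f ⁻¹ᵁ O.1).ι p, ?_⟩
    change σ p = _
    rw [hσ, Scheme.Hom.comp_apply, Scheme.Hom.comp_apply]
    erw [hp, hd]
    rfl
  · rintro _ ⟨x, rfl⟩
    change f.fromNormalization (f.toNormalization x) ∈ U
    rw [← Scheme.Hom.comp_apply, f.toNormalization_fromNormalization]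
    exact (w x).2

include hbij hext in
/-- Descent of essential surjectivity of restriction. -/
theorem essSurj_of_extendsOnAffines : (FEt.restrict U.ι).EssSurj := by
  refine ⟨fun Wc => ?_⟩
  haveI : IsFinite Wc.hom := Wc.prop.1
  haveI : Etale Wc.hom := Wc.prop.2
  have hp := prop_fromNormalization g hbij hext Wc.hom
  have H := (isPullback_toNormalization g hbij hext Wc.hom).flip
  refine ⟨MorphismProperty.Over.mk ⊤ (Wc.hom ≫ U.ι).fromNormalization hp, ⟨?_⟩⟩
  exact MorphismProperty.Over.isoMk H.isoPullback.symm (by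
    rw [Iso.symm_hom, Iso.inv_comp_eq]; exact H.isoPullback_hom_snd.symm)

end Groth.Pi1Purity
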