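import Groth.Agent.EtaleBase.FpqcDescent
import Groth.Prelude.Def_FEt
import Mathlib.AlgebraicGeometry.QuasiAffine
import Mathlib.AlgebraicGeometry.Morphisms.Flat
import Mathlib.AlgebraicGeometry.Morphisms.LocalFlatDescent

/-!
# Extending finite étale covers of quasi-affine opens by flat descent
-/

universe u

set_option autoImplicit false
set_option linter.style.haveILetI false
set_option linter.unusedSectionVars false
set_option backward.isDefEq.respectTransparency false
set_option backward.defeqAttrib.useBackward true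

open CategoryTheory CategoryTheory.Limits AlgebraicGeometry

namespace Groth.Pi1Purity

/-- Global sections of a flat base change of a qcqs scheme over an affine scheme. -/
theorem isPushout_appTop_of_flat {P Z T S : Scheme.{u}} [IsAffine S] [IsAffine T] [CompactSpace Z]
    [QuasiSeparatedSpace Z] {a : P ⟶ Z} {b : P ⟶ T} {p : Z ⟶ S} {g : T ⟶ S} [Flat g]
    (H : IsPullback a b p g) : IsPushout p.appTop g.appTop a.appTop b.appTop := by
  have hiso := isIso_pushoutSection_of_isQuasiSeparated_of_flat_right H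
    (US := ⊤) (UT := ⊤) (UX := ⊤) (UY := ⊤) le_top le_top (by simp)
    (isAffineOpen_top _) (isAffineOpen_top _) CompactSpace.isCompact_univ (IsQuasiSeparated.of_quasiSeparatedSpace _)
  have := (isIso_pushoutSection_iff H (US := ⊤) (UT := ⊤) (UX := ⊤) (UY := ⊤) le_top le_top (by simp)).1 hiso
  convert this using 1 <;> exact (Scheme.Hom.appLE_eq_app _).symm

/-- An affine scheme flat over `O` has the same functions as its restriction to `Y`. -/
theorem isIso_appTop_of_flat {P Y T O : Scheme.{u}} [IsAffine O] [IsAffine T] [CompactSpace Y]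
    [QuasiSeparatedSpace Y] {j : Y ⟶ O} [IsIso j.appTop] {a : P ⟶ Y} {b : P ⟶ T} {g : T ⟶ O} [Flat g]
    (H : IsPullback a b j g) : IsIso b.appTop :=
  (isPushout_appTop_of_flat H).isIso_inr_of_isIso inferInstance

/-- Affine schemes over an affine base with the same functions are isomorphic. -/
theorem exists_iso_of_affine {Z P Q T : Scheme.{u}} [IsAffine P] [IsAffine Q] [IsAffine T] (k : Z ⟶ P) (l : Z ⟶ Q)
    [IsIso k.appTop] [IsIso l.appTop] (p : P ⟶ T) (q : Q ⟶ T) (h : k ≫ p = l ≫ q) :
    ∃ m : P ≅ Q, m.hom ≫ q = p := by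
  refine ⟨P.isoSpec ≪≫ Scheme.Spec.mapIso (asIso l.appTop ≪≫ (asIso k.appTop).symm).op ≪≫ Q.isoSpec.symm, ?_⟩
  simp only [Iso.trans_hom, Iso.symm_hom, Functor.mapIso_hom, Iso.op_hom, Category.assoc, asIso_hom, asIso_inv]
  rw [← cancel_mono T.isoSpec.hom, Category.assoc, Category.assoc, Category.assoc, ← Scheme.isoSpec_hom_naturality q,
    ← Scheme.isoSpec_hom_naturality p, Iso.inv_hom_id_assoc]
  congr 1
  change Spec.map (l.appTop ≫ inv k.appTop) ≫ Spec.map q.appTop = Spec.map p.appTop
  rw [← Spec.map_comp]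
  congr 1
  rw [← Category.assoc, IsIso.comp_inv_eq, ← Scheme.Hom.comp_appTop, ← Scheme.Hom.comp_appTop, h]

section

variable {O Y W : Scheme.{u}} [IsAffine O] [CompactSpace Y] (j : Y ⟶ O) [IsOpenImmersion j] [IsIso j.appTop]
  (w : W ⟶ Y) [IsFinite w]

/-- The affine hull of a finite scheme over a quasi-affine open. -/
noncomputable def hull : Spec Γ(W, ⊤) ⟶ O := Spec.map (w ≫ j).appTop ≫ O.isoSpec.inv

theorem isPullback_hull : IsPullback w W.toSpecΓ j (hull j w) := by
  haveI : Y.IsQuasiAffine := Scheme.IsQuasiAffine.of_isImmersion j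
  have h1 := Scheme.isPullback_toSpecΓ_toSpecΓ w
  let e : Spec Γ(Y, ⊤) ≅ O := (Scheme.Spec.mapIso (asIso j.appTop).op) ≪≫ O.isoSpec.symm
  refine h1.of_iso (Iso.refl _) (Iso.refl _) (Iso.refl _) e (by simp) (by simp) ?_ ?_
  · simp only [e, Iso.refl_hom, Category.id_comp, Iso.trans_hom, Iso.symm_hom, Functor.mapIso_hom, Iso.op_hom,
      asIso_hom]
    change Y.toSpecΓ ≫ Spec.map j.appTop ≫ O.isoSpec.inv = j
    rw [← Scheme.toSpecΓ_naturality_assoc, Scheme.toSpecΓ_isoSpec_inv, Category.comp_id]
  · simp only [e, Iso.refl_hom, Category.id_comp, Iso.trans_hom, Iso.symm_hom, Functor.mapIso_hom, Iso.op_hom,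
      asIso_hom, hull, Scheme.Hom.comp_appTop, Spec.map_comp, Category.assoc]
    rfl

variable [Etale w]

/-- The hull is finite étale over an affine scheme flat over the base as soon as the cover extends there. -/
theorem prop_pullback_hull {T : Scheme.{u}} [IsAffine T] (h : T ⟶ O) [Flat h]
    (V : FEt.Cat T) {Z : Scheme.{u}} {zV : Z ⟶ V.left} {zP : Z ⟶ pullback j h}
    (hV : IsPullback zP zV (pullback.snd j h) V.hom) {zW : Z ⟶ W}
    (hW : IsPullback zW zP w (pullback.fst j h)) :
    FEt.prop (pullback.snd (hull j w) h) := by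
  haveI : IsFinite V.hom := V.prop.1
  haveI : Etale V.hom := V.prop.2
  haveI : IsAffine V.left := isAffine_of_isAffineHom (X := V.left) (Y := T) V.hom
  haveI : Y.IsQuasiAffine := Scheme.IsQuasiAffine.of_isImmersion j
  haveI : W.IsQuasiAffine := Scheme.IsQuasiAffine.of_isAffineHom w
  haveI : QuasiSeparatedSpace Y := inferInstance
  haveI : QuasiSeparatedSpace W := inferInstance
  haveI : IsAffine (pullback (hull j w) h) := IsAffine.of_isPullback (IsPullback.of_hasPullback (hull j w) h).flip
  -- functions on the extension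
  have hl : IsPullback (zP ≫ pullback.fst j h) zV j (V.hom ≫ h) :=
    ((hV.flip.paste_vert (IsPullback.of_hasPullback j h).flip)).flip
  haveI : Flat (V.hom ≫ h) := MorphismProperty.comp_mem _ _ _ inferInstance inferInstance
  haveI : IsIso zV.appTop := isIso_appTop_of_flat hl
  -- functions on the base change of the hull
  have hk0 : IsPullback zW (zP ≫ pullback.snd j h) (w ≫ j) h := hW.paste_vert (IsPullback.of_hasPullback j h)
  let k : Z ⟶ pullback (hull j w) h := pullback.lift (zW ≫ W.toSpecΓ) (zP ≫ pullback.snd j h) (by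
    rw [Category.assoc, ← (isPullback_hull j w).w, hk0.w])
  have hZ := isPushout_appTop_of_flat hk0
  have hP := isPushout_appTop_of_isPullback (IsPullback.of_hasPullback (hull j w) h)
  have hfac : (w ≫ j).appTop = (hull j w).appTop ≫ W.toSpecΓ.appTop := by
    rw [← Scheme.Hom.comp_appTop, ← (isPullback_hull j w).w]
  haveI : IsIso W.toSpecΓ.appTop := by rw [Scheme.toSpecΓ_appTop]; infer_instance
  haveI : IsIso k.appTop := by
    have hZ' : IsPushout (hull j w).appTop h.appTop (W.toSpecΓ.appTop ≫ zW.appTop)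
        (zP ≫ pullback.snd j h).appTop := by
      refine hZ.of_iso (Iso.refl _) (asIso W.toSpecΓ.appTop).symm (Iso.refl _) (Iso.refl _) ?_ (by simp) ?_ (by simp)
      · simp [hfac]
      · simp
    have heq : k.appTop = (hP.isoIsPushout _ _ hZ').hom := by
      apply hP.hom_ext
      · rw [IsPushout.inl_isoIsPushout_hom, ← Scheme.Hom.comp_appTop, pullback.lift_fst, Scheme.Hom.comp_appTop]
      · rw [IsPushout.inr_isoIsPushout_hom, ← Scheme.Hom.comp_appTop, pullback.lift_snd]
    rw [heq]
    infer_instance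
  obtain ⟨m, hm⟩ := exists_iso_of_affine k zV (pullback.snd (hull j w) h) V.hom
    (by rw [pullback.lift_snd, hV.w])
  rw [← hm]
  exact MorphismProperty.comp_mem _ _ _ ⟨inferInstance, inferInstance⟩ V.prop

end

end Groth.Pi1Purity
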