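import Groth.Agent.Limits.GlueLocal
import Groth.Agent.Limits.DescentStage
import Groth.Agent.Limits.HomDescent
import Groth.Agent.Pi1FEt.SpecEquiv
import Mathlib.RingTheory.Smooth.NoetherianDescent

/-!
# Spreading out finite étale covers of local schemes
-/

universe u

set_option autoImplicit false
set_option backward.isDefEq.respectTransparency false
set_option backward.defeqAttrib.useBackward true
set_option linter.style.haveILetI false

open CategoryTheory CategoryTheory.Limits AlgebraicGeometry TopologicalSpace TensorProduct Opposite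

namespace Groth.Pi1Purity

open Groth.Limits

variable {X : Scheme.{u}} [IsLocallyNoetherian X] {W₀ : X.Opens} (hW₀ : IsAffineOpen W₀) {x : X}

include hW₀ in
/-- A finite étale cover of a local scheme extends to a basic neighbourhood. -/
theorem exists_spread (hx : x ∈ W₀) (Y : FEt.Cat (Spec (X.presheaf.stalk x))) :
    ∃ (k : BasicNhd W₀ x) (T : Scheme.{u}) (q : T ⟶ (k.1 : Scheme.{u})) (_ : FEt.prop q)
      (τ : Y.left ⟶ T), IsPullback τ Y.hom q (k.1.fromSpecStalkOfMem x k.2.1) := by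
  let R : Type u := Γ(X, W₀)
  haveI : IsNoetherianRing R := IsLocallyNoetherian.component_noetherian ⟨W₀, hW₀⟩
  let Ax : Type u := X.presheaf.stalk x
  letI : Algebra R Ax := (X.presheaf.germ W₀ x hx).hom.toAlgebra
  let Pc := (Pi1FEt.specFun Ax).objPreimage Y
  let eY : (Pi1FEt.specFun Ax).obj Pc ≅ Y := (Pi1FEt.specFun Ax).objObjPreimageIso Y
  let P : Type u := Pc.unop.obj
  obtain ⟨A₀, C₀, _, _, hfg, hC₀, ⟨E⟩⟩ := Algebra.Etale.exists_subalgebra_fg (R := R) (A := Ax) (B := P)
  haveI : Algebra.FiniteType R A₀ := (Subalgebra.fg_iff_finiteType A₀).1 hfg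
  haveI : Algebra.FinitePresentation R A₀ := Algebra.FinitePresentation.of_finiteType.1 inferInstance
  let b : Spec (X.presheaf.stalk x) ⟶ Spec (CommRingCat.of A₀) :=
    Spec.map (CommRingCat.ofHom (algebraMap A₀ Ax))
  let q₀ : Spec (CommRingCat.of A₀) ⟶ X :=
    Spec.map (CommRingCat.ofHom (algebraMap R A₀)) ≫ hW₀.fromSpec
  haveI : LocallyOfFinitePresentation (Spec.map (CommRingCat.ofHom (algebraMap R A₀))) :=
    (HasRingHomProperty.Spec_iff (P := @LocallyOfFinitePresentation)).2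
      (RingHom.finitePresentation_algebraMap.2 inferInstance)
  haveI : LocallyOfFinitePresentation q₀ :=
    MorphismProperty.comp_mem @LocallyOfFinitePresentation _ _ inferInstance inferInstance
  have hb : b ≫ q₀ = X.fromSpecStalk x ≫ 𝟙 X := by
    rw [Category.comp_id, ← hW₀.fromSpecStalk_eq_fromSpecStalk hx, IsAffineOpen.fromSpecStalk]
    simp only [b, q₀, ← Category.assoc, ← Spec.map_comp]
    congr 2
  obtain ⟨V, bV, hbV, -⟩ := exists_extend_nhd hW₀ hx (𝟙 X) q₀ b hb
  let c₀ : Spec (CommRingCat.of C₀) ⟶ Spec (CommRingCat.of A₀) :=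
    Spec.map (CommRingCat.ofHom (algebraMap A₀ C₀))
  haveI : Etale c₀ := (HasRingHomProperty.Spec_iff (P := @Etale)).2 (RingHom.etale_algebraMap.2 hC₀)
  let f₀ := pullback.snd c₀ bV
  -- the limit
  haveI := nonempty_basicNhd (W := W₀) hx
  haveI (V : BasicNhd W₀ x) := isAffine_nhdDiagram hW₀ V
  haveI : ∀ {V V' : BasicNhd W₀ x} (m : V ⟶ V'), IsAffineHom ((nhdDiagram W₀ x).map m) :=
    fun m => isAffineHom_nhdDiagram hW₀ m
  obtain ⟨lim⟩ := nonempty_isLimit_nhdCone hW₀ hx
  -- the cover as a base change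
  let χ : Y.left ⟶ Spec (CommRingCat.of C₀) := eY.inv.left ≫
    Spec.map (CommRingCat.ofHom ((E.symm : Ax ⊗[A₀] C₀ →+* P).comp
      (Algebra.TensorProduct.includeRight : C₀ →ₐ[A₀] Ax ⊗[A₀] C₀).toRingHom))
  have hχ : IsPullback χ Y.hom c₀ b := by
    have h1 := (IsPullback.of_hasPullback (Spec.map (CommRingCat.ofHom (algebraMap A₀ Ax)))
      (Spec.map (CommRingCat.ofHom (algebraMap A₀ C₀)))).flip
    have h2 : IsPullback (Spec.map (CommRingCat.ofHom (Algebra.TensorProduct.includeRight : C₀ →ₐ[A₀] Ax ⊗[A₀] C₀).toRingHom))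
        (Spec.map (CommRingCat.ofHom (algebraMap Ax (Ax ⊗[A₀] C₀)))) c₀ b :=
      h1.of_iso (pullbackSpecIso A₀ Ax C₀) (Iso.refl _) (Iso.refl _) (Iso.refl _)
        (by rw [Iso.refl_hom, Category.comp_id]; exact (pullbackSpecIso_hom_snd A₀ Ax C₀).symm)
        (by rw [Iso.refl_hom, Category.comp_id]; exact (pullbackSpecIso_hom_fst' A₀ Ax C₀).symm)
        (by rw [Iso.refl_hom, Iso.refl_hom, Category.comp_id, Category.id_comp])
        (by rw [Iso.refl_hom, Iso.refl_hom, Category.comp_id, Category.id_comp])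
    let eL : Spec (CommRingCat.of P) ≅ Y.left :=
      (MorphismProperty.Over.forget _ _ _ ⋙ Over.forget _).mapIso eY
    let eT : Spec (CommRingCat.of (Ax ⊗[A₀] C₀)) ≅ Spec (CommRingCat.of P) :=
      Scheme.Spec.mapIso (E.toRingEquiv.toCommRingCatIso.op)
    refine h2.of_iso (eT ≪≫ eL) (Iso.refl _) (Iso.refl _) (Iso.refl _) ?_ ?_ (by simp) (by simp)
    · simp only [Iso.trans_hom, Iso.refl_hom, Category.comp_id, Category.assoc]
      change _ = eT.hom ≫ eY.hom.left ≫ eY.inv.left ≫ _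
      rw [← Category.assoc eY.hom.left, show eY.hom.left ≫ eY.inv.left = 𝟙 _ from
        congrArg (fun φ => φ.left) eY.hom_inv_id, Category.id_comp]
      change _ = Spec.map _ ≫ Spec.map _
      rw [← Spec.map_comp]
      refine congrArg Spec.map ?_
      ext c
      exact (E.apply_symm_apply _).symm
    · simp only [Iso.trans_hom, Iso.refl_hom, Category.comp_id, Category.assoc]
      change _ = eT.hom ≫ eY.hom.left ≫ Y.hom
      rw [show eY.hom.left ≫ Y.hom = _ from MorphismProperty.Over.w eY.hom]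
      change _ = Spec.map _ ≫ Spec.map _
      rw [← Spec.map_comp]
      refine congrArg Spec.map ?_
      ext a
      exact (E.commutes a).symm
  haveI : IsFinite Y.hom := Y.prop.1
  have hχ' : IsPullback χ Y.hom c₀ (V.1.fromSpecStalkOfMem x V.2.1 ≫ bV) := by rw [hbV]; exact hχ
  let qX : Y.left ⟶ pullback c₀ bV := pullback.lift χ (Y.hom ≫ V.1.fromSpecStalkOfMem x V.2.1)
    (by rw [hχ'.w, Category.assoc])
  have hX : IsPullback qX Y.hom f₀ (V.1.fromSpecStalkOfMem x V.2.1) :=
    IsPullback.of_right (by rw [show qX ≫ pullback.fst c₀ bV = χ from pullback.lift_fst _ _ _]; exact hχ')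
      (pullback.lift_snd _ _ _) (IsPullback.of_hasPullback c₀ bV)
  haveI : IsIso (𝟙 ((nhdDiagram W₀ x).obj V)) := IsIso.id ((nhdDiagram W₀ x).obj V)
  have hY : IsPullback (V.1.fromSpecStalkOfMem x V.2.1) (𝟙 _) (𝟙 ((nhdDiagram W₀ x).obj V))
      ((nhdCone W₀ x).π.app V) := IsPullback.of_vert_isIso ⟨(Category.comp_id _).trans (Category.id_comp _).symm⟩
  haveI : CompactSpace (V.1 : Scheme.{u}) :=
    isCompact_iff_compactSpace.1 (isAffineOpen_nhd hW₀ V).isCompact
  obtain ⟨j, hj⟩ := exists_isFinite_stage (D := nhdDiagram W₀ x) lim hY hX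
  let k := j.left
  let hle : k.1 ≤ V.1 := leOfHom j.hom
  let d : ((k.1 : X.Opens) : Scheme.{u}) ⟶ (V.1 : Scheme.{u}) := X.homOfLE hle
  let q := pullback.snd f₀ d
  have hq : IsFinite q := by
    let p := pullback.snd ((nhdDiagram W₀ x).map j.hom) (𝟙 ((nhdDiagram W₀ x).obj V))
    let r : (k.1 : Scheme.{u}) ⟶ pullback ((nhdDiagram W₀ x).map j.hom) (𝟙 ((nhdDiagram W₀ x).obj V)) :=
      pullback.lift (𝟙 _) ((nhdDiagram W₀ x).map j.hom) ((Category.id_comp _).trans (Category.comp_id _).symm)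
    have hr : r ≫ p = d := pullback.lift_snd _ _ _
    have h1 : IsFinite (pullback.snd (pullback.snd f₀ p) r) := MorphismProperty.pullback_snd _ _ hj
    have h2 : IsFinite (pullback.snd f₀ (r ≫ p)) :=
      (MorphismProperty.cancel_left_of_respectsIso @IsFinite (pullbackLeftPullbackSndIso f₀ p r).hom _).1
        (by rw [pullbackLeftPullbackSndIso_hom_snd]; exact h1)
    rw [hr] at h2
    exact h2
  have hd : k.1.fromSpecStalkOfMem x k.2.1 ≫ d = V.1.fromSpecStalkOfMem x V.2.1 := by
    rw [← cancel_mono V.1.ι]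
    simp [d]
  refine ⟨k, _, q, ⟨hq, MorphismProperty.pullback_snd _ _ (MorphismProperty.pullback_snd _ _ inferInstance)⟩,
    pullback.lift qX (Y.hom ≫ k.1.fromSpecStalkOfMem x k.2.1) (by rw [hX.w, Category.assoc, hd]), ?_⟩
  refine IsPullback.of_right ?_ (pullback.lift_snd _ _ _) (IsPullback.of_hasPullback f₀ d)
  rw [pullback.lift_fst, hd]
  exact hX

end Groth.Pi1Purity
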